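import Groth.Agent.Lib.RefHull.SubStalk
import Mathlib.AlgebraicGeometry.Morphisms.QuasiCompact
import Mathlib.AlgebraicGeometry.Noetherian
import Mathlib.AlgebraicGeometry.Stalk
import Mathlib.RingTheory.DiscreteValuationRing.Basic
import Mathlib.RingTheory.Ideal.AssociatedPrime.Basic
import Mathlib.RingTheory.Ideal.Height

/-!
# Closed subschemes without embedded points with prescribed codimension one multiplicities
-/

set_option autoImplicit false
set_option linter.style.haveILetI false

noncomputable section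

universe u

open CategoryTheory AlgebraicGeometry TopologicalSpace IsLocalRing

namespace Groth.Agent.Lib.NoEmb12

variable {X : Scheme.{u}} {U : X.Opens} (hU : IsAffineOpen U)

/-- The germ map on an open. -/
abbrev g (x : X) (hx : x ∈ U) : Γ(X, U) →+* X.presheaf.stalk x := (X.presheaf.germ U x hx).hom

/-- The prime of a point. -/
abbrev P (x : X) (hx : x ∈ U) : Ideal Γ(X, U) := (maximalIdeal (X.presheaf.stalk x)).comap (g x hx)

theorem notMem_P_iff {x : X} (hx : x ∈ U) (s : Γ(X, U)) : s ∉ P x hx ↔ IsUnit (g x hx s) := by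
  rw [Ideal.mem_comap, notMem_maximalIdeal]

include hU in
theorem P_eq {x : X} (hx : x ∈ U) : P x hx = (hU.primeIdealOf ⟨x, hx⟩).asIdeal := by
  letI := X.presheaf.algebra_section_stalk ⟨x, hx⟩
  haveI := hU.isLocalization_stalk ⟨x, hx⟩
  exact IsLocalization.AtPrime.under_maximalIdeal (X.presheaf.stalk x)
    (hU.primeIdealOf ⟨x, hx⟩).asIdeal

include hU in
theorem surj {x : X} (hx : x ∈ U) (a : X.presheaf.stalk x) :
    ∃ r s, s ∉ P x hx ∧ a * g x hx s = g x hx r := by
  letI := X.presheaf.algebra_section_stalk ⟨x, hx⟩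
  haveI := hU.isLocalization_stalk ⟨x, hx⟩
  obtain ⟨⟨r, s⟩, h⟩ := IsLocalization.surj (hU.primeIdealOf ⟨x, hx⟩).asIdeal.primeCompl a
  refine ⟨r, s.1, ?_, h⟩
  rw [P_eq hU hx]
  exact s.2

include hU in
theorem mem_map_iff {x : X} (hx : x ∈ U) (I : Ideal Γ(X, U)) (r : Γ(X, U)) :
    g x hx r ∈ I.map (g x hx) ↔ ∃ s, s ∉ P x hx ∧ s * r ∈ I := by
  letI := X.presheaf.algebra_section_stalk ⟨x, hx⟩
  haveI := hU.isLocalization_stalk ⟨x, hx⟩
  rw [P_eq hU hx]
  exact IsLocalization.algebraMap_mem_map_algebraMap_iff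
    (hU.primeIdealOf ⟨x, hx⟩).asIdeal.primeCompl (X.presheaf.stalk x) I r

include hU in
theorem specializes_of_le {x y : X} (hx : x ∈ U) (hy : y ∈ U) (h : P x hx ≤ P y hy) : x ⤳ y := by
  rw [P_eq hU hx, P_eq hU hy] at h
  have := ((PrimeSpectrum.le_iff_specializes _ _).1
    (show hU.primeIdealOf ⟨x, hx⟩ ≤ hU.primeIdealOf ⟨y, hy⟩ from h)).map hU.fromSpec.continuous
  erw [hU.fromSpec_primeIdealOf, hU.fromSpec_primeIdealOf] at this
  exact this

theorem le_of_specializes {x y : X} (hx : x ∈ U) (hy : y ∈ U) (h : x ⤳ y) : P x hx ≤ P y hy := by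
  intro r hr
  by_contra hc
  rw [notMem_P_iff, ← Scheme.mem_basicOpen X r y hy] at hc
  have : x ∈ X.basicOpen r := h.mem_open (X.basicOpen r).isOpen hc
  rw [Scheme.mem_basicOpen X r x hx, ← notMem_P_iff] at this
  exact this hr

include hU in
theorem exists_point (q : Ideal Γ(X, U)) (hq : q.IsPrime) : ∃ (x : X) (hx : x ∈ U), P x hx = q := by
  let p : PrimeSpectrum Γ(X, U) := ⟨q, hq⟩
  have hx : hU.fromSpec p ∈ U := by
    have h : hU.fromSpec p ∈ Set.range hU.fromSpec := ⟨p, rfl⟩
    rwa [hU.range_fromSpec] at h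
  refine ⟨hU.fromSpec p, hx, ?_⟩
  rw [P_eq hU hx]
  exact congrArg PrimeSpectrum.asIdeal
    (hU.fromSpec.isOpenEmbedding.injective (hU.fromSpec_primeIdealOf ⟨_, hx⟩) : hU.primeIdealOf ⟨_, hx⟩ = p)

/-- Incomparability of codimension one points. -/
theorem eq_of_specializes {x y : X} (h : x ⤳ y)
    (hx : ringKrullDim (X.presheaf.stalk x) = 1) (hy : ringKrullDim (X.presheaf.stalk y) = 1) :
    x = y := by
  obtain ⟨V, hV, hyV, -⟩ := exists_isAffineOpen_mem_and_subset (x := y) (U := ⊤) trivial
  have hxV : x ∈ V := h.mem_open V.isOpen hyV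
  have key : ∀ (w : X) (hw : w ∈ V), ringKrullDim (X.presheaf.stalk w) = (P w hw).height := by
    intro w hw
    letI := X.presheaf.algebra_section_stalk ⟨w, hw⟩
    haveI := hV.isLocalization_stalk ⟨w, hw⟩
    rw [P_eq hV hw]
    exact IsLocalization.AtPrime.ringKrullDim_eq_height (hV.primeIdealOf ⟨w, hw⟩).asIdeal _
  have h1 : (P x hxV).height = 1 := by
    have := key x hxV; rw [hx] at this; exact_mod_cast this.symm
  have h2 : (P y hyV).height = 1 := by
    have := key y hyV; rw [hy] at this; exact_mod_cast this.symm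
  have e : P x hxV = P y hyV := by
    rcases (le_of_specializes hxV hyV h).eq_or_lt with e | e
    · exact e
    · haveI : (P x hxV).FiniteHeight := ⟨Or.inr (by rw [h1]; decide)⟩
      exact absurd (Ideal.height_strict_mono_of_isPrime e) (by rw [h1, h2]; exact lt_irrefl _)
  exact ((specializes_of_le hV hxV hyV e.le).antisymm (specializes_of_le hV hyV hxV e.ge)).eq

variable (I : X.IdealSheafData)

/-- The stalk of an ideal sheaf. -/
abbrev J (U : X.affineOpens) (x : X) (hx : x ∈ U.1) : Ideal (X.presheaf.stalk x) :=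
  (I.ideal U).map (g x hx)

theorem mem_range_iff (U : X.affineOpens) {x : X} (hx : x ∈ U.1) :
    x ∈ Set.range I.subschemeι ↔ I.ideal U ≤ P x hx := by
  rw [I.range_subschemeι, SetLike.mem_coe, I.mem_support_iff_of_mem hx, Scheme.mem_zeroLocus_iff]
  refine forall₂_congr fun r _ => ?_
  rw [Scheme.mem_basicOpen X r x hx, ← notMem_P_iff, not_not]

theorem J_le (U : X.affineOpens) (z : I.subscheme) (hz : I.subschemeι z ∈ U.1) :
    J I U (I.subschemeι z) hz ≤ maximalIdeal _ :=
  Ideal.map_le_iff_le_comap.2 ((mem_range_iff I U hz).1 ⟨z, rfl⟩)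

theorem ker_stalkMap (U : X.affineOpens) (z : I.subscheme) (hz : I.subschemeι z ∈ U.1) :
    RingHom.ker (I.subschemeι.stalkMap z).hom = J I U (I.subschemeι z) hz := by
  rw [RefHull.SubStalk.ker_stalkMap I (Ideal.span_eq (I.ideal U)).symm z hz]
  rfl

/-- An associated closed point, in terms of the stalk ideal. -/
theorem isAssociatedPrime_iff [IsLocallyNoetherian X] (U : X.affineOpens) (z : I.subscheme)
    (hz : I.subschemeι z ∈ U.1) :
    IsAssociatedPrime (maximalIdeal (I.subscheme.presheaf.stalk z)) (I.subscheme.presheaf.stalk z) ↔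
      ∃ a, a ∉ J I U _ hz ∧ ∀ m ∈ maximalIdeal (X.presheaf.stalk (I.subschemeι z)),
        m * a ∈ J I U _ hz := by
  have hs := RefHull.SubStalk.stalkMap_surjective I z
  haveI : IsNoetherianRing (I.subscheme.presheaf.stalk z) :=
    isNoetherianRing_of_surjective _ _ _ hs
  rw [← ker_stalkMap I U z hz, _root_.isAssociatedPrime_iff]
  simp only [RingHom.mem_ker, map_mul]
  constructor
  · rintro ⟨-, b, hb⟩
    obtain ⟨a, rfl⟩ := hs b
    refine ⟨a, fun h0 => ?_, fun m hm => ?_⟩
    · apply (inferInstance : (maximalIdeal (I.subscheme.presheaf.stalk z)).IsPrime).ne_top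
      rw [hb, eq_top_iff]
      intro r _
      rw [Submodule.mem_colon_singleton, h0, smul_zero]
      exact zero_mem _
    · have : (I.subschemeι.stalkMap z).hom m ∈ maximalIdeal _ := map_nonunit _ m hm
      rw [hb, Submodule.mem_colon_singleton, Submodule.mem_bot, smul_eq_mul] at this
      exact this
  · rintro ⟨a, ha, h⟩
    refine ⟨inferInstance, (I.subschemeι.stalkMap z).hom a, ?_⟩
    refine le_antisymm (fun r hr => ?_) (le_maximalIdeal fun e => ha ?_)
    · obtain ⟨m, rfl⟩ := hs r
      rw [Submodule.mem_colon_singleton, Submodule.mem_bot, smul_eq_mul]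
      exact h m fun hu => hr (hu.map _)
    · have h1 : (1 : I.subscheme.presheaf.stalk z) ∈ (⊤ : Ideal _) := trivial
      rw [← e, Submodule.mem_colon_singleton, Submodule.mem_bot, one_smul] at h1
      exact h1

theorem length_stalk (U : X.affineOpens) (z : I.subscheme) (hz : I.subschemeι z ∈ U.1) :
    Module.length (I.subscheme.presheaf.stalk z) (I.subscheme.presheaf.stalk z) =
      Module.length (X.presheaf.stalk (I.subschemeι z))
        (X.presheaf.stalk (I.subschemeι z) ⧸ J I U _ hz) := by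
  have hs := RefHull.SubStalk.stalkMap_surjective I z
  letI := (I.subschemeι.stalkMap z).hom.toAlgebra
  rw [← Module.length_eq_of_surjective (S := X.presheaf.stalk (I.subschemeι z))
      (R := I.subscheme.presheaf.stalk z) hs,
    ← ker_stalkMap I U z hz]
  exact (LinearEquiv.length_eq
    (Ideal.quotientKerAlgEquivOfSurjective (f := Algebra.ofId (X.presheaf.stalk (I.subschemeι z))
      (I.subscheme.presheaf.stalk z)) hs).toLinearEquiv).symm

/-- The closed subscheme `Spec (O_z / m ^ a)`. -/
def thick (z : X) (a : ℕ) :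
    Spec (CommRingCat.of (X.presheaf.stalk z ⧸ maximalIdeal (X.presheaf.stalk z) ^ a)) ⟶ X :=
  Spec.map (CommRingCat.ofHom (Ideal.Quotient.mk _)) ≫ X.fromSpecStalk z

theorem ker_thick [IsLocallyNoetherian X] [QuasiSeparatedSpace X] (z : X) (a : ℕ) (ha : a ≠ 0)
    (U : X.affineOpens) (r : Γ(X, U.1)) :
    r ∈ (thick z a).ker.ideal U ↔
      ∀ hz : z ∈ U.1, g z hz r ∈ maximalIdeal (X.presheaf.stalk z) ^ a := by
  have hpt : ∀ p, thick z a p = z := by
    intro p
    rw [thick, Scheme.Hom.comp_apply]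
    refine Eq.trans (congrArg (X.fromSpecStalk z) ?_) Scheme.fromSpecStalk_closedPoint
    apply PrimeSpectrum.ext
    have hp := p.isPrime
    have hle : maximalIdeal (X.presheaf.stalk z) ≤ p.asIdeal.comap (Ideal.Quotient.mk _) := by
      refine fun m hm => (hp.comap _).mem_of_pow_mem a ?_
      show Ideal.Quotient.mk _ (m ^ a) ∈ p.asIdeal
      rw [Ideal.Quotient.eq_zero_iff_mem.2 (Ideal.pow_mem_pow hm a)]
      exact zero_mem _
    exact ((maximalIdeal.isMaximal (X.presheaf.stalk z)).eq_of_le (hp.comap _).ne_top hle).symm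
  haveI : QuasiCompact (thick z a) := inferInstance
  rw [Scheme.Hom.ker_apply, RingHom.mem_ker]
  by_cases hz : z ∈ U.1
  · simp only [hz, forall_true_left]
    have hV : (thick z a) ⁻¹ᵁ U.1 = ⊤ := by
      ext p; simp only [Scheme.Hom.coe_preimage, Set.mem_preimage, hpt]; simp [hz]
    rw [← Ideal.Quotient.eq_zero_iff_mem]
    let q := (Ideal.Quotient.mk (maximalIdeal (X.presheaf.stalk z) ^ a))
    have happ : (thick z a).app U.1 = X.presheaf.germ U.1 z hz ≫ CommRingCat.ofHom q ≫
        (Scheme.ΓSpecIso _).inv ≫ (Spec _).presheaf.map (homOfLE le_top).op := by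
      rw [show (thick z a).app U.1 = (X.fromSpecStalk z).app U.1 ≫ (Spec.map (CommRingCat.ofHom q)).app _ from
        Scheme.Hom.comp_app _ _ _, Scheme.fromSpecStalk_app hz]
      simp only [Category.assoc]
      congr 1
      rw [Scheme.Hom.naturality]
      exact (Category.assoc _ _ _).symm.trans
        (((Scheme.ΓSpecIso_inv_naturality (CommRingCat.ofHom q)).symm =≫ _).trans (Category.assoc _ _ _))
    have key : (thick z a).app U.1 r =
        (Spec _).presheaf.map (eqToHom hV).op ((Scheme.ΓSpecIso _).inv (q (g z hz r))) := by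
      rw [happ]
      rfl
    rw [key]
    constructor
    · intro h
      exact (injective_iff_map_eq_zero _).1
        (ConcreteCategory.bijective_of_isIso
          ((Scheme.ΓSpecIso _).inv ≫ (Spec _).presheaf.map (eqToHom hV).op)).1 _ h
    · intro h
      rw [h, map_zero, map_zero]
  · simp only [hz, IsEmpty.forall_iff, iff_true]
    have hV : (thick z a) ⁻¹ᵁ U.1 = ⊥ := by
      ext p; simp only [Scheme.Hom.coe_preimage, Set.mem_preimage, hpt]; simp [hz]
    haveI : Subsingleton ((Spec (CommRingCat.of (X.presheaf.stalk z ⧸ maximalIdeal (X.presheaf.stalk z) ^ a))).presheaf.obj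
        (Opposite.op ((thick z a) ⁻¹ᵁ U.1))) := by rw [hV]; infer_instance
    exact Subsingleton.elim _ _

end Groth.Agent.Lib.NoEmb12
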