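import Groth.Agent.Lib.NoEmb12.Basic
import Mathlib.RingTheory.KrullDimension.PID

/-!
# Existence and uniqueness of the closed subscheme of a codimension one cycle
-/

set_option autoImplicit false
set_option linter.style.haveILetI false

noncomputable section

universe u

open CategoryTheory AlgebraicGeometry TopologicalSpace IsLocalRing

namespace Groth.Agent.Lib.NoEmb12

variable {X : Scheme.{u}} [IsNoetherian X] (W : X → ℤ) (hfin : {x | W x ≠ 0}.Finite)

/-- The support of the cycle. -/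
def T : Set X := {x | W x ≠ 0}

/-- The ideal of the subscheme of the cycle. -/
def cycIdeal : X.IdealSheafData :=
  ⨅ z : T W, (thick (z : X) (W z).toNat).ker

variable (hpos : ∀ x, 0 ≤ W x)
  (hreg : ∀ x, W x ≠ 0 → ∃ _ : IsDomain ↑(X.presheaf.stalk x), IsDiscreteValuationRing ↑(X.presheaf.stalk x))

include hpos in
theorem toNat_ne {z : X} (hz : W z ≠ 0) : (W z).toNat ≠ 0 := by
  have := hpos z
  omega

include hreg in
theorem dim_eq {z : X} (hz : W z ≠ 0) : ringKrullDim (X.presheaf.stalk z) = 1 := by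
  obtain ⟨_, _⟩ := hreg z hz
  exact IsPrincipalIdealRing.ringKrullDim_eq_one _
    (IsDiscreteValuationRing.not_isField _)

include hfin hpos in
theorem mem_cycIdeal (U : X.affineOpens) (r : Γ(X, U.1)) :
    r ∈ (cycIdeal W).ideal U ↔ ∀ (z : X) (hz : z ∈ U.1), W z ≠ 0 →
      g z hz r ∈ maximalIdeal (X.presheaf.stalk z) ^ (W z).toNat := by
  haveI : Finite (T W) := hfin.to_subtype
  rw [cycIdeal, Scheme.IdealSheafData.ideal_iInf, iInf_apply, Submodule.mem_iInf]
  constructor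
  · intro h z hz hW
    exact (ker_thick z _ (toNat_ne W hpos hW) U r).1 (h ⟨z, hW⟩) hz
  · rintro h ⟨z, hW⟩
    exact (ker_thick z _ (toNat_ne W hpos hW) U r).2 fun hz => h z hz hW

include hfin hpos in
/-- A relevant component through a point, for a section outside of the ideal. -/
theorem exists_component (U : X.affineOpens) {x : X} (hx : x ∈ U.1) (r : Γ(X, U.1))
    (hr : g x hx r ∉ J (cycIdeal W) U x hx) :
    ∃ (z : X) (hz : z ∈ U.1), W z ≠ 0 ∧ P z hz ≤ P x hx ∧
      g z hz r ∉ maximalIdeal (X.presheaf.stalk z) ^ (W z).toNat := by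
  classical
  by_contra hc
  apply hr
  let F := (hfin.toFinset.filter fun z => ∃ hz : z ∈ U.1, ¬ P z hz ≤ P x hx).attach
  have key : ∀ z : {z // z ∈ hfin.toFinset.filter fun z => ∃ hz : z ∈ U.1, ¬ P z hz ≤ P x hx},
      ∃ s, s ∉ P x hx ∧ ∀ hz : (z : X) ∈ U.1, g (z : X) hz s ∈ maximalIdeal _ ^ (W z).toNat := by
    rintro ⟨z, hz⟩
    obtain ⟨hzU, hnle⟩ := (Finset.mem_filter.1 hz).2
    obtain ⟨s, hs, hsx⟩ := SetLike.not_le_iff_exists.1 hnle
    refine ⟨s ^ (W z).toNat, fun h => hsx (Ideal.IsPrime.mem_of_pow_mem inferInstance _ h), fun _ => ?_⟩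
    rw [map_pow]
    exact Ideal.pow_mem_pow (show g z hzU s ∈ maximalIdeal _ from hs) _
  choose s hs hsm using key
  refine (mem_map_iff U.2 hx _ r).2 ⟨∏ z ∈ F, s z, ?_, (mem_cycIdeal W hfin hpos U _).2 fun z hz hW => ?_⟩
  · intro h
    obtain ⟨z, -, hz⟩ := Ideal.IsPrime.prod_mem_iff.1 h
    exact hs z hz
  · rw [map_mul]
    by_cases hle : P z hz ≤ P x hx
    · refine Ideal.mul_mem_left _ _ ?_
      by_contra hg
      exact hc ⟨z, hz, hW, hle, hg⟩
    · refine Ideal.mul_mem_right _ _ ?_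
      let w : {z // z ∈ hfin.toFinset.filter fun z => ∃ hz : z ∈ U.1, ¬ P z hz ≤ P x hx} :=
        ⟨z, Finset.mem_filter.2 ⟨hfin.mem_toFinset.2 hW, hz, hle⟩⟩
      rw [← Finset.mul_prod_erase F s (Finset.mem_attach _ w), map_mul]
      exact Ideal.mul_mem_right _ _ (hsm w hz)

include hfin hpos hreg in
theorem J_cycIdeal (U : X.affineOpens) {z : X} (hz : z ∈ U.1) (hW : W z ≠ 0) :
    J (cycIdeal W) U z hz = maximalIdeal (X.presheaf.stalk z) ^ (W z).toNat := by
  refine le_antisymm (Ideal.map_le_iff_le_comap.2 fun r hr =>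
    (mem_cycIdeal W hfin hpos U r).1 hr z hz hW) fun a ha => ?_
  obtain ⟨r, s, hs, has⟩ := surj U.2 hz a
  have hu := (notMem_P_iff hz s).1 hs
  rw [← Ideal.mul_unit_mem_iff_mem _ hu, has]
  by_contra hc
  obtain ⟨w, hw, hWw, hle, hg⟩ := exists_component W hfin hpos U hz r hc
  obtain rfl := eq_of_specializes (specializes_of_le U.2 hw hz hle) (dim_eq W hreg hWw) (dim_eq W hreg hW)
  exact hg (has ▸ Ideal.mul_mem_right _ _ ha)

include hfin hpos in
theorem exists_specializes {x : X} (hx : x ∈ Set.range (cycIdeal W).subschemeι) :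
    ∃ z, W z ≠ 0 ∧ z ⤳ x := by
  obtain ⟨p, rfl⟩ := hx
  obtain ⟨U, hU, hxU, -⟩ :=
    exists_isAffineOpen_mem_and_subset (x := (cycIdeal W).subschemeι p) (U := ⊤) trivial
  have h1 : g _ hxU 1 ∉ J (cycIdeal W) ⟨U, hU⟩ _ hxU := by
    rw [map_one]
    exact fun h => (maximalIdeal.isMaximal _).ne_top
      ((Ideal.eq_top_iff_one _).2 (J_le (cycIdeal W) ⟨U, hU⟩ p hxU h))
  obtain ⟨z, hz, hW, hle, -⟩ := exists_component W hfin hpos ⟨U, hU⟩ hxU 1 h1
  exact ⟨z, hW, specializes_of_le hU hz hxU hle⟩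

include hfin hpos in
theorem mem_range_cycIdeal {z : X} (hW : W z ≠ 0) : z ∈ Set.range (cycIdeal W).subschemeι := by
  obtain ⟨U, hU, hz, -⟩ := exists_isAffineOpen_mem_and_subset (x := z) (U := ⊤) trivial
  rw [mem_range_iff (cycIdeal W) ⟨U, hU⟩ hz]
  intro r hr
  show g z hz r ∈ maximalIdeal (X.presheaf.stalk z)
  exact Ideal.pow_le_self (toNat_ne W hpos hW) ((mem_cycIdeal W hfin hpos ⟨U, hU⟩ r).1 hr z hz hW)

include hfin hpos in
theorem apply_ne_zero_of_max {p : (cycIdeal W).subscheme}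
    (h : ∀ q : (cycIdeal W).subscheme, q ⤳ p → q = p) : W ((cycIdeal W).subschemeι p) ≠ 0 := by
  obtain ⟨z, hW, hsp⟩ := exists_specializes W hfin hpos ⟨p, rfl⟩
  obtain ⟨q, rfl⟩ := mem_range_cycIdeal W hfin hpos hW
  obtain rfl := h q ((cycIdeal W).subschemeι.isEmbedding.specializes_iff.1 hsp)
  exact hW

include hfin hpos hreg in
theorem max_of_apply_ne_zero {p : (cycIdeal W).subscheme}
    (hp : W ((cycIdeal W).subschemeι p) ≠ 0) : ∀ q : (cycIdeal W).subscheme, q ⤳ p → q = p := by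
  intro q hq
  have hq' := hq.map (cycIdeal W).subschemeι.continuous
  obtain ⟨z, hW, hsp⟩ := exists_specializes W hfin hpos (x := (cycIdeal W).subschemeι q) ⟨q, rfl⟩
  obtain rfl := eq_of_specializes (hsp.trans hq') (dim_eq W hreg hW) (dim_eq W hreg hp)
  exact (cycIdeal W).subschemeι.isEmbedding.injective (hq'.antisymm hsp).eq

/-- The conditions on the subscheme of a cycle. -/
def Good (𝓘 : X.IdealSheafData) : Prop :=
  (∀ z : ↥𝓘.subscheme,
    IsAssociatedPrime (IsLocalRing.maximalIdeal ↑(𝓘.subscheme.presheaf.stalk z))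
      ↑(𝓘.subscheme.presheaf.stalk z) → ∀ z' : ↥𝓘.subscheme, z' ⤳ z → z' = z) ∧
  (∀ z : ↥𝓘.subscheme, (∀ z' : ↥𝓘.subscheme, z' ⤳ z → z' = z) →
    Module.length ↑(𝓘.subscheme.presheaf.stalk z) ↑(𝓘.subscheme.presheaf.stalk z) =
      ((W (𝓘.subschemeι.base z)).toNat : ℕ∞)) ∧
  (∀ x : X, W x ≠ 0 → ∃ z : ↥𝓘.subscheme, 𝓘.subschemeι.base z = x ∧
    ∀ z' : ↥𝓘.subscheme, z' ⤳ z → z' = z)

include hfin hpos hreg in
theorem good_cycIdeal : Good W (cycIdeal W) := by
  refine ⟨fun p hp => max_of_apply_ne_zero W hfin hpos hreg ?_, fun p hp => ?_, fun x hx => ?_⟩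
  · obtain ⟨U, hU, hxU, -⟩ :=
      exists_isAffineOpen_mem_and_subset (x := (cycIdeal W).subschemeι p) (U := ⊤) trivial
    obtain ⟨a, ha, hm⟩ := (isAssociatedPrime_iff (cycIdeal W) ⟨U, hU⟩ p hxU).1 hp
    obtain ⟨r, s, hs, has⟩ := surj hU hxU a
    have hr : g _ hxU r ∉ J (cycIdeal W) ⟨U, hU⟩ _ hxU := by
      rw [← has, Ideal.mul_unit_mem_iff_mem _ ((notMem_P_iff hxU s).1 hs)]
      exact ha
    obtain ⟨z, hz, hW, hle, hg⟩ := exists_component W hfin hpos ⟨U, hU⟩ hxU r hr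
    have e : P ((cycIdeal W).subschemeι p) hxU ≤ P z hz := by
      intro t ht
      by_contra ht'
      have h1 : g _ hxU (t * r) ∈ J (cycIdeal W) ⟨U, hU⟩ _ hxU := by
        rw [map_mul, ← has, ← mul_assoc]
        exact Ideal.mul_mem_right _ _ (hm _ ht)
      obtain ⟨c, hc, hcr⟩ := (mem_map_iff hU hxU _ _).1 h1
      have h2 := (mem_cycIdeal W hfin hpos ⟨U, hU⟩ _).1 hcr z hz hW
      rw [map_mul, map_mul, Ideal.unit_mul_mem_iff_mem _ ((notMem_P_iff hz c).1 fun h => hc (hle h)),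
        Ideal.unit_mul_mem_iff_mem _ ((notMem_P_iff hz t).1 ht')] at h2
      exact hg h2
    have := (specializes_of_le hU hxU hz e).antisymm (specializes_of_le hU hz hxU hle)
    rw [this.eq]
    exact hW
  · have hW := apply_ne_zero_of_max W hfin hpos hp
    obtain ⟨U, hU, hxU, -⟩ :=
      exists_isAffineOpen_mem_and_subset (x := (cycIdeal W).subschemeι p) (U := ⊤) trivial
    obtain ⟨_, _⟩ := hreg _ hW
    rw [length_stalk (cycIdeal W) ⟨U, hU⟩ p hxU, J_cycIdeal W hfin hpos hreg ⟨U, hU⟩ hxU hW]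
    exact IsDiscreteValuationRing.length_quotient_pow_maximalIdeal _ _
  · obtain ⟨p, rfl⟩ := mem_range_cycIdeal W hfin hpos hx
    exact ⟨p, rfl, max_of_apply_ne_zero W hfin hpos hreg hx⟩

variable {W}

omit [AlgebraicGeometry.IsNoetherian X] in
theorem eq_of_length_eq {R : Type u} [CommRing R] {A B : Ideal R} (hle : A ≤ B)
    (heq : Module.length R (R ⧸ A) = Module.length R (R ⧸ B))
    (hne : Module.length R (R ⧸ A) ≠ ⊤) : A = B := by
  refine le_antisymm hle fun b hb => ?_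
  obtain ⟨_, _⟩ := isFiniteLength_iff_isNoetherian_isArtinian.1 (Module.length_ne_top_iff.1 hne)
  by_contra hbA
  have hN : Submodule.map (Submodule.mkQ A) B ≠ ⊥ := fun e => hbA <| by
    have : Submodule.mkQ A b ∈ Submodule.map (Submodule.mkQ A) B := ⟨b, hb, rfl⟩
    rw [e, Submodule.mem_bot, Submodule.mkQ_apply, Submodule.Quotient.mk_eq_zero] at this
    exact this
  have hlt := Submodule.length_quotient_lt _ hN
  rw [(Submodule.quotientQuotientEquivQuotient A B hle).length_eq, ← heq] at hlt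
  exact lt_irrefl _ hlt

include hpos hreg in
theorem J_eq_of_good {𝓘 : X.IdealSheafData} (h : Good W 𝓘) (U : X.affineOpens) {x : X}
    (hx : x ∈ U.1) (hW : W x ≠ 0) :
    J 𝓘 U x hx = maximalIdeal (X.presheaf.stalk x) ^ (W x).toNat := by
  obtain ⟨p, rfl, hmax⟩ := h.2.2 x hW
  obtain ⟨_, _⟩ := hreg _ hW
  have h1 := h.2.1 p hmax
  rw [length_stalk 𝓘 U p hx,
    ← IsDiscreteValuationRing.length_quotient_pow_maximalIdeal (X.presheaf.stalk (𝓘.subschemeι p))
      (W (𝓘.subschemeι p)).toNat] at h1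
  have hfl : IsFiniteLength (X.presheaf.stalk (𝓘.subschemeι p))
      (X.presheaf.stalk (𝓘.subschemeι p) ⧸ maximalIdeal (X.presheaf.stalk (𝓘.subschemeι p)) ^
        (W (𝓘.subschemeι p)).toNat) := by
    rw [← Module.length_ne_top_iff, IsDiscreteValuationRing.length_quotient_pow_maximalIdeal]
    exact ENat.natCast_ne_top _
  rcases (ValuationRing.iff_ideal_total.1 (inferInstance : ValuationRing (X.presheaf.stalk (𝓘.subschemeι p)))).total
      (J 𝓘 U (𝓘.subschemeι p) hx) (maximalIdeal _ ^ (W (𝓘.subschemeι p)).toNat) with hle | hle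
  · exact eq_of_length_eq hle h1 (h1 ▸ Module.length_ne_top_iff.2 hfl)
  · exact (eq_of_length_eq hle h1.symm (Module.length_ne_top_iff.2 hfl)).symm

include hfin hpos hreg in
theorem eq_cycIdeal_of_good {𝓘 : X.IdealSheafData} (h : Good W 𝓘) : 𝓘 = cycIdeal W := by
  refine Scheme.IdealSheafData.ext (funext fun U => le_antisymm (fun r hr => ?_) fun r hr => ?_)
  · refine (mem_cycIdeal W hfin hpos U r).2 fun z hz hW => ?_
    rw [← J_eq_of_good hpos hreg h U hz hW]
    exact Ideal.mem_map_of_mem _ hr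
  · haveI : IsNoetherianRing Γ(X, U.1) := IsLocallyNoetherian.component_noetherian U
    by_contra hc
    obtain ⟨q, hq, hle⟩ := exists_le_isAssociatedPrime_of_isNoetherianRing Γ(X, U.1)
      (Ideal.Quotient.mk (𝓘.ideal U) r) fun h => hc (Ideal.Quotient.eq_zero_iff_mem.1 h)
    obtain ⟨hqp, c, hc'⟩ := (_root_.isAssociatedPrime_iff (R := Γ(X, U.1))).1 hq
    obtain ⟨c, rfl⟩ := Ideal.Quotient.mk_surjective c
    have hqe : ∀ t, t ∈ q ↔ t * c ∈ 𝓘.ideal U := fun t => by
      rw [hc', Submodule.mem_colon_singleton, Submodule.mem_bot, Algebra.smul_def,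
        Ideal.Quotient.algebraMap_eq, ← map_mul, Ideal.Quotient.eq_zero_iff_mem]
    obtain ⟨x, hx, hPx⟩ := exists_point U.2 q hqp
    have hxr : x ∈ Set.range 𝓘.subschemeι := by
      rw [mem_range_iff 𝓘 U hx, hPx]
      exact fun t ht => (hqe t).2 (Ideal.mul_mem_right _ _ ht)
    obtain ⟨p, rfl⟩ := hxr
    have hmax : ∀ p', p' ⤳ p → p' = p := by
      refine h.1 p ((isAssociatedPrime_iff 𝓘 U p hx).2 ⟨g _ hx c, fun h' => ?_, fun m hm => ?_⟩)
      · obtain ⟨s, hs, hsc⟩ := (mem_map_iff U.2 hx _ _).1 h'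
        exact hs (hPx ▸ (hqe s).2 hsc)
      · obtain ⟨t, s, hs, hts⟩ := surj U.2 hx m
        rw [← Ideal.mul_unit_mem_iff_mem _ ((notMem_P_iff hx s).1 hs), mul_right_comm, hts, ← map_mul]
        refine Ideal.mem_map_of_mem _ ((hqe t).1 ?_)
        rw [← hPx, Ideal.mem_comap, ← hts]
        exact Ideal.mul_mem_right _ _ hm
    have hW : W (𝓘.subschemeι p) ≠ 0 := by
      intro h0
      have := h.2.1 p hmax
      rw [show W (𝓘.subschemeι.base p) = 0 from h0] at this
      haveI := Module.length_eq_zero_iff.1 (show Module.length (𝓘.subscheme.presheaf.stalk p)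
        (𝓘.subscheme.presheaf.stalk p) = 0 by simpa using this)
      exact one_ne_zero (Subsingleton.elim (1 : 𝓘.subscheme.presheaf.stalk p) 0)
    have h1 := (mem_cycIdeal W hfin hpos U r).1 hr _ hx hW
    rw [← J_eq_of_good hpos hreg h U hx hW, mem_map_iff U.2 hx] at h1
    obtain ⟨s, hs, hsr⟩ := h1
    refine hs (hPx ▸ hle ?_)
    rw [Submodule.mem_colon_singleton, Submodule.mem_bot, Algebra.smul_def,
      Ideal.Quotient.algebraMap_eq, ← map_mul, Ideal.Quotient.eq_zero_iff_mem]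
    exact hsr

end Groth.Agent.Lib.NoEmb12
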